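import Cfsg.Agent.H65.Ore.Prd
import Cfsg.Agent.H511.Ore.Local
import Cfsg.Agent.H511.Ore.Deg
import Cfsg.Agent.Characters.SchurBound

/-!
# Products of three conjugates (the last condition of S2452; helper981)

* `Cu x g` : `g` is a product of three conjugates of `x`;
* `cu_of_ne_zero` : `∑ χ(x)³ conj χ(g) / χ(1)² ≠ 0` gives `Cu x g`;
* `cu_of_deg` : the nontrivial `χ` with `χ x ≠ 0` have degree at least `d`, `(|C(x)| - 1)³ < d²`: every `g` is a product of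
  three conjugates of `x`;
* `cu_of_degOff` : `x` of order `p`, `p ∥ |G|`, `DegOff G p d`.
-/

set_option autoImplicit false

namespace Cfsg.Agent.H981.TC.Cube

open Cfsg Cfsg.Agent Cfsg.Agent.Characters
open Cfsg.Agent.H65.Ore (one1 one1_apply coe_ne_one sum_erase_sq)
open scoped ComplexConjugate

universe u

variable {G : Type u} [Group G]

/-- `g` is a product of three conjugates of `x` -/
def Cu (x g : G) : Prop := ∃ u v w : G, g = (u * x * u⁻¹) * (v * x * v⁻¹) * (w * x * w⁻¹)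

variable [Finite G]

theorem deg_cast (χ : IrrCharacter G) : (χ : G → ℂ) 1 = (charDegree (χ : G → ℂ) : ℂ) :=
  Cfsg.Agent.Blocks.Knorr.charDegree_eq χ.2

theorem cu_of_ne_zero [Fintype (IrrCharacter G)] {x g : G}
    (h : ∑ χ : IrrCharacter G, (χ : G → ℂ) x ^ 3 * conj ((χ : G → ℂ) g) / (χ : G → ℂ) 1 ^ 2 ≠ 0) : Cu x g := by
  classical
  have := Fintype.ofFinite G
  by_contra hno
  apply h
  have hG : (Nat.card G : ℂ) ≠ 0 := by exact_mod_cast Nat.card_pos.ne'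
  -- no solution for any third factor
  have h0 : ∀ w : G, ∑ χ : IrrCharacter G, (χ : G → ℂ) x * (χ : G → ℂ) x *
      (χ : G → ℂ) (w * x * w⁻¹ * g⁻¹) / (χ : G → ℂ) 1 = 0 := by
    intro w
    by_contra h1
    have h2 : H65.Ore.Prd x x (g * (w * x * w⁻¹)⁻¹) := by
      apply H65.Ore.prd_of_ne_zero
      have e : ∀ χ : IrrCharacter G, conj ((χ : G → ℂ) (g * (w * x * w⁻¹)⁻¹)) = (χ : G → ℂ) (w * x * w⁻¹ * g⁻¹) := by
        intro χ
        rw [← Core.isCharacter_apply_inv (Core.isIrr_isCharacter χ.2)]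
        congr 1
        group
      simp only [e]
      exact h1
    obtain ⟨u, v, e⟩ := h2
    apply hno
    refine ⟨u, v, w, ?_⟩
    rw [← e]
    group
  have h3 : ∑ w : G, ∑ χ : IrrCharacter G, (χ : G → ℂ) x * (χ : G → ℂ) x *
      (χ : G → ℂ) (w * x * w⁻¹ * g⁻¹) / (χ : G → ℂ) 1 = 0 := Finset.sum_eq_zero fun w _ => h0 w
  rw [Finset.sum_comm] at h3
  have h4 : ∀ χ : IrrCharacter G, ∑ w : G, (χ : G → ℂ) x * (χ : G → ℂ) x *
      (χ : G → ℂ) (w * x * w⁻¹ * g⁻¹) / (χ : G → ℂ) 1 =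
      (Nat.card G : ℂ) * ((χ : G → ℂ) x ^ 3 * conj ((χ : G → ℂ) g) / (χ : G → ℂ) 1 ^ 2) := by
    intro χ
    rw [← Finset.sum_div, ← Finset.mul_sum, Central.sum_char_conj_mul χ.2 x g⁻¹,
      Core.isCharacter_apply_inv (Core.isIrr_isCharacter χ.2) g]
    ring
  simp only [h4] at h3
  rw [← Finset.mul_sum] at h3
  exact (mul_eq_zero.1 h3).resolve_left hG

/-- **The criterion.** -/
theorem cu_of_deg {x : G} {c d : ℕ} (hc : Nat.card (Subgroup.centralizer ({x} : Set G)) ≤ c + 1) (hcd : c ^ 3 < d ^ 2)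
    (hd : ∀ χ : IrrCharacter G, (χ : G → ℂ) ≠ 1 → (χ : G → ℂ) x ≠ 0 → d ≤ charDegree (χ : G → ℂ)) (g : G) : Cu x g := by
  classical
  have : Finite (IrrCharacter G) := Core.finite_irr
  have := Fintype.ofFinite (IrrCharacter G)
  have hd0 : 0 < d := by
    rcases Nat.eq_zero_or_pos d with h0 | h0
    · rw [h0] at hcd; omega
    · exact h0
  have hdR : (0 : ℝ) < d := by exact_mod_cast hd0
  apply cu_of_ne_zero
  intro h0
  rw [← Finset.add_sum_erase Finset.univ _ (Finset.mem_univ (one1 G))] at h0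
  simp only [one1_apply, one_pow, map_one, mul_one, div_one] at h0
  have h1 : ∑ χ ∈ Finset.univ.erase (one1 G),
      (χ : G → ℂ) x ^ 3 * conj ((χ : G → ℂ) g) / (χ : G → ℂ) 1 ^ 2 = -1 := by
    linear_combination h0
  have h2 := norm_sum_le (Finset.univ.erase (one1 G))
    (fun χ : IrrCharacter G => (χ : G → ℂ) x ^ 3 * conj ((χ : G → ℂ) g) / (χ : G → ℂ) 1 ^ 2)
  rw [h1, norm_neg, norm_one] at h2
  -- the second moment
  have hS : ∑ χ ∈ Finset.univ.erase (one1 G), ‖(χ : G → ℂ) x‖ ^ 2 ≤ (c : ℝ) := by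
    rw [sum_erase_sq]
    have h3 : (Nat.card (Subgroup.centralizer ({x} : Set G)) : ℝ) ≤ ((c + 1 : ℕ) : ℝ) := by exact_mod_cast hc
    push_cast at h3
    linarith
  have hval : ∀ χ ∈ Finset.univ.erase (one1 G), ‖(χ : G → ℂ) x‖ ≤ Real.sqrt c := by
    intro χ hχ
    apply Real.le_sqrt_of_sq_le
    exact (Finset.single_le_sum (f := fun χ : IrrCharacter G => ‖(χ : G → ℂ) x‖ ^ 2) (fun _ _ => by positivity) hχ).trans hS
  have h3 : ∀ χ ∈ Finset.univ.erase (one1 G),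
      ‖(χ : G → ℂ) x ^ 3 * conj ((χ : G → ℂ) g) / (χ : G → ℂ) 1 ^ 2‖ ≤ Real.sqrt c / d * ‖(χ : G → ℂ) x‖ ^ 2 := by
    intro χ hχ
    by_cases hx0 : (χ : G → ℂ) x = 0
    · rw [hx0, zero_pow (by norm_num), zero_mul, zero_div, norm_zero]
      positivity
    · have hd1 : d ≤ charDegree (χ : G → ℂ) := hd χ (coe_ne_one (Finset.ne_of_mem_erase hχ)) hx0
      have hD : (d : ℝ) ≤ (charDegree (χ : G → ℂ) : ℝ) := by exact_mod_cast hd1
      have hD0 : (0 : ℝ) < (charDegree (χ : G → ℂ) : ℝ) := hdR.trans_le hD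
      have hg : ‖(χ : G → ℂ) g‖ ≤ (charDegree (χ : G → ℂ) : ℝ) :=
        SchurBound.norm_le (Core.isIrr_isCharacter χ.2) (deg_cast χ) g
      rw [norm_div, norm_mul, norm_pow, norm_pow, Complex.norm_conj, deg_cast χ, Complex.norm_natCast]
      have h4 := hval χ hχ
      have h5 : (0 : ℝ) ≤ ‖(χ : G → ℂ) x‖ := norm_nonneg _
      calc ‖(χ : G → ℂ) x‖ ^ 3 * ‖(χ : G → ℂ) g‖ / (charDegree (χ : G → ℂ) : ℝ) ^ 2
          ≤ ‖(χ : G → ℂ) x‖ ^ 3 * (charDegree (χ : G → ℂ) : ℝ) / (charDegree (χ : G → ℂ) : ℝ) ^ 2 := by gcongr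
        _ = ‖(χ : G → ℂ) x‖ ^ 3 / (charDegree (χ : G → ℂ) : ℝ) := by field_simp
        _ ≤ ‖(χ : G → ℂ) x‖ ^ 3 / d := by gcongr
        _ = ‖(χ : G → ℂ) x‖ / d * ‖(χ : G → ℂ) x‖ ^ 2 := by ring
        _ ≤ Real.sqrt c / d * ‖(χ : G → ℂ) x‖ ^ 2 := by gcongr
  have h4 := h2.trans (Finset.sum_le_sum h3)
  rw [← Finset.mul_sum] at h4
  have h5 : Real.sqrt c / d * ∑ χ ∈ Finset.univ.erase (one1 G), ‖(χ : G → ℂ) x‖ ^ 2 ≤ Real.sqrt c / d * c := by
    gcongr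
  have h6 := h4.trans h5
  have h7 : Real.sqrt c * c < d := by
    apply lt_of_pow_lt_pow_left₀ 2 hdR.le
    rw [mul_pow, Real.sq_sqrt (Nat.cast_nonneg c)]
    have h8 : ((c ^ 3 : ℕ) : ℝ) < ((d ^ 2 : ℕ) : ℝ) := by exact_mod_cast hcd
    push_cast at h8
    calc (c : ℝ) * (c : ℝ) ^ 2 = (c : ℝ) ^ 3 := by ring
      _ < _ := h8
  have h8 : Real.sqrt c / d * c < 1 := by
    rw [div_mul_eq_mul_div, div_lt_one hdR]
    exact h7
  linarith

/-- an exact prime -/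
theorem cu_of_degOff {p : ℕ} (hp : p.Prime) (h1 : p ∣ Nat.card G) (h2 : ¬ p ^ 2 ∣ Nat.card G) {x : G}
    (hx : orderOf x = p) {c d : ℕ} (hc : Nat.card (Subgroup.centralizer ({x} : Set G)) ≤ c + 1) (hcd : c ^ 3 < d ^ 2)
    (hd : H511.Ore.DegOff G p d) (g : G) : Cu x g :=
  cu_of_deg hc hcd (fun χ hχ h0 => hd χ hχ fun h3 => h0
    (H511.Ore.vanish_of_dvd hp (n := 1) (by rwa [pow_one]) h2 (by rwa [pow_one]) (by rw [hx]))) g

end Cfsg.Agent.H981.TC.Cube
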