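import Cfsg.Agent.H980.TC.ThTC
import Cfsg.Agent.H981.TC.Cube
import Cfsg.Agent.H210.TC.Row

/-!
# The row Th of S2452 (helper981): products of three elements of order 31

Helper980's pair (31, 19) of S4173 with the cube.
-/

set_option autoImplicit false
set_option maxRecDepth 100000

namespace Cfsg.Agent.H981.TC.CubeTh

open Cfsg Subgroup Cfsg.Agent Cfsg.Agent.H511.Ore Cfsg.Agent.H174.Ore Cfsg.Agent.H174.Ore.Th
open Cfsg.Agent.H653.Sieve Cfsg.Agent.H651.Two Cfsg.Agent.H777.Ore Cfsg.Agent.H980.TC.Th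

/-- degrees prime to 31 -/
def p31 (d : ℕ) : Bool := !Nat.beq (d % 31) 0

theorem deg31 : DegOn Spor.Th p31 170 := by
  have := H174.Ore.Th.finite
  have := H174.Ore.Th.simple
  exact degOn_of_check nonab 90745943887872000 card fac chk2 chk3 cd chk1 has minDeg_zero noDeg' (by decide +kernel)

theorem cube_x {x : Spor.Th} (hx : orderOf x = 31) (g : Spor.Th) : Cube.Cu x g := by
  have := H174.Ore.Th.finite
  obtain ⟨f, hf⟩ := exists_emb
  refine Cube.cu_of_degOff (p := 31) (by norm_num) ?_ ?_ hx (c := 30) (d := 170) ?_ (by norm_num) (fun χ h1 h2 => ?_) g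
  · rw [card]; norm_num
  · rw [card]; norm_num
  · exact (H829.Pw.th_cent31 hf hx).le
  · refine deg31 χ h1 ?_
    rw [p31, Bool.not_eq_true', ← Bool.not_eq_true, Nat.beq_eq]
    exact fun h => h2 (Nat.dvd_of_mod_eq_zero h)

/-- **S2464 and S2452, row Th.** -/
theorem row3_Th {S : Type*} [Group S] (h : Spor.IsoTh S) : H210.TC.Row3 S := by
  obtain ⟨e⟩ := h
  refine H210.TC.Row3.of_equiv e ?_
  obtain ⟨x, y, hx, hy, hp⟩ := exists_th (S := Spor.Th) ⟨MulEquiv.refl _⟩
  exact ⟨x, y, by rw [hx]; norm_num, by rw [hx]; norm_num, by rw [hy]; norm_num, by rw [hy]; norm_num, hp, cube_x hx⟩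

end Cfsg.Agent.H981.TC.CubeTh
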