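import Cfsg.Agent.H651.HNF.NineCent
import Cfsg.Agent.H187.Ore.HN15

/-!
# The centralizer of an element of order 9 of the Harada-Norton group has order at most 65610 (helper981)

Only the primes 3 and 5 divide it, the 3-part is at most 27, a Sylow 5-subgroup centralizes an element of order 45.
-/

set_option autoImplicit false

namespace Cfsg.Agent.H981.TC.HNNine

open Subgroup Cfsg Cfsg.Agent
open Cfsg.Agent.H651.HNF.Nine

/-- no element of prime order `p ≠ 3, 5` commutes with an element of order 9 -/
theorem prime_eq' {x b : Spor.HN} (hx : orderOf x = 9) {p : ℕ} (hp : p.Prime) (hb : orderOf b = p)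
    (hc : b * x = x * b) : p = 3 ∨ p = 5 := by
  have h1 : p ∣ 273030912000000 := by
    rw [← hb, ← Cfsg.Agent.H651.HNF.card_G]
    exact orderOf_dvd_natCard b
  have hmul : p ≠ 3 → orderOf (b * x) = p * 9 := by
    intro h3
    have := (show Commute b x from hc).orderOf_mul_eq_mul_orderOf_of_coprime (by
      rw [hb, hx, show (9 : ℕ) = 3 ^ 2 by norm_num]
      exact ((Nat.coprime_primes hp Nat.prime_three).2 h3).pow_right 2)
    rw [this, hb, hx]
  rcases Cfsg.Agent.H789.Ore.HNComp.prime_cases hp h1 with rfl | rfl | rfl | rfl | rfl | rfl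
  · exfalso
    have h9 : x ^ 3 ^ 2 = 1 := by rw [show (3 : ℕ) ^ 2 = 9 by norm_num, ← hx, pow_orderOf_eq_one]
    have h3 := Cfsg.Agent.H569.HNThree.exp_three (y := x) (t := b) ⟨2, h9⟩ hb hc.symm
    have h4 := orderOf_dvd_of_pow_eq_one h3
    rw [hx] at h4
    norm_num at h4
  · exact Or.inl rfl
  · exact Or.inr rfl
  · exfalso
    have h := hmul (by norm_num)
    rcases Cfsg.Agent.H651.HNF.ord7 (b * x) (by rw [h]; norm_num) (by rw [h]; norm_num) with h' | h' | h' <;>
      · rw [h] at h'; norm_num at h'
  · exfalso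
    have h := hmul (by norm_num)
    rcases Cfsg.Agent.H651.HNF.ord11 (b * x) (by rw [h]; norm_num) with h' | h' <;>
      · rw [h] at h'; norm_num at h'
  · exfalso
    have h := hmul (by norm_num)
    have h' := Cfsg.Agent.H651.HNF.ord19 (b * x) (by rw [h]; norm_num)
    rw [h] at h'; norm_num at h'

theorem cent_9 (g : Spor.HN) (hg : orderOf g = 9) : Nat.card (centralizer ({g} : Set Spor.HN)) ≤ 78408 := by
  have hfin : Finite Spor.HN := Cfsg.Agent.H315.PwHN.fin
  have f3 : Fact (Nat.Prime 3) := ⟨Nat.prime_three⟩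
  have f5 : Fact (Nat.Prime 5) := ⟨Nat.prime_five⟩
  set C := centralizer ({g} : Set Spor.HN) with hC
  have hgC : g ∈ C := mem_centralizer_singleton_iff.2 rfl
  have hn0 : Nat.card C ≠ 0 := Nat.card_pos.ne'
  -- the primes
  have hpr : (Nat.card C).primeFactors ⊆ {3, 5} := by
    intro p hp
    rw [Nat.mem_primeFactors] at hp
    obtain ⟨hp1, hp2, -⟩ := hp
    have : Fact p.Prime := ⟨hp1⟩
    obtain ⟨b, hb⟩ := exists_prime_orderOf_dvd_card' (G := C) p hp2
    have := prime_eq' hg hp1 (b := (b : Spor.HN)) (by rw [Subgroup.orderOf_coe, hb]) (mem_centralizer_singleton_iff.1 b.2)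
    simpa using this
  have hcard : Nat.card C = 3 ^ (Nat.card C).factorization 3 * 5 ^ (Nat.card C).factorization 5 := by
    conv_lhs => rw [← Nat.prod_factorization_pow_eq_self hn0]
    rw [Finsupp.prod_of_support_subset (s := {3, 5}) _ hpr _ (fun _ _ => pow_zero _)]
    rw [Finset.prod_pair (by norm_num)]
  -- the 3-part
  have h3 : 3 ^ (Nat.card C).factorization 3 ≤ 27 := by
    have hz : IsPGroup 3 (zpowers (⟨g, hgC⟩ : C)) :=
      IsPGroup.of_card (n := 2) (by rw [Nat.card_zpowers, Subgroup.orderOf_mk, hg]; norm_num)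
    obtain ⟨S, hS⟩ := hz.exists_le_sylow
    rw [← S.card_eq_multiplicity]
    have e : Nat.card ((S : Subgroup C).map C.subtype) = Nat.card S :=
      Subgroup.card_map_of_injective C.subtype_injective
    rw [← e]
    refine card_three hg _ (S.isPGroup'.map _) ?_ ?_
    · rintro _ ⟨c, -, rfl⟩
      exact c.2
    · exact ⟨⟨g, hgC⟩, hS (mem_zpowers _), rfl⟩
  -- the 5-part
  have h5 : 5 ^ (Nat.card C).factorization 5 ≤ 2430 := by
    obtain ⟨S⟩ : Nonempty (Sylow 5 C) := inferInstance
    rw [← S.card_eq_multiplicity]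
    rcases subsingleton_or_nontrivial S with hs | hs
    · exact (Nat.card_of_subsingleton (1 : S)).le.trans (by norm_num)
    · have hz : Nontrivial (Subgroup.center S) := S.isPGroup'.center_nontrivial
      have hd : 5 ∣ Nat.card (Subgroup.center S) := by
        obtain ⟨k, hk⟩ := IsPGroup.iff_card.1 (S.isPGroup'.to_subgroup (Subgroup.center S))
        rcases k with _ | k
        · rw [pow_zero] at hk
          exact absurd hk (Finite.one_lt_card_iff_nontrivial.2 hz).ne'
        · rw [hk, pow_succ]
          exact Dvd.intro_left _ rfl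
      obtain ⟨b, hb⟩ := exists_prime_orderOf_dvd_card' (G := Subgroup.center S) 5 hd
      have hb5 : orderOf (((b : S) : C) : Spor.HN) = 5 := by
        rw [Subgroup.orderOf_coe, Subgroup.orderOf_coe, Subgroup.orderOf_coe, hb]
      have hbg : (((b : S) : C) : Spor.HN) * g = g * (((b : S) : C) : Spor.HN) :=
        mem_centralizer_singleton_iff.1 ((b : S) : C).2
      have ho : 15 ∣ orderOf ((((b : S) : C) : Spor.HN) * g) := by
        have := (show Commute (((b : S) : C) : Spor.HN) g from hbg).orderOf_mul_eq_mul_orderOf_of_coprime (by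
          rw [hb5, hg]; norm_num)
        rw [this, hb5, hg]
        norm_num
      refine le_trans ?_ (H187.Ore.HN15.card_cent_le ho)
      refine Nat.card_le_card_of_injective (fun s : S => ⟨((s : C) : Spor.HN), ?_⟩) ?_
      · rw [mem_centralizer_singleton_iff]
        have e1 : ((s : C) : Spor.HN) * (((b : S) : C) : Spor.HN) = (((b : S) : C) : Spor.HN) * ((s : C) : Spor.HN) := by
          have h := Subgroup.mem_center_iff.1 b.2 s
          exact congrArg (fun z : S => ((z : C) : Spor.HN)) h
        have e2 : ((s : C) : Spor.HN) * g = g * ((s : C) : Spor.HN) := mem_centralizer_singleton_iff.1 (s : C).2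
        calc ((s : C) : Spor.HN) * ((((b : S) : C) : Spor.HN) * g) = (((s : C) : Spor.HN) * (((b : S) : C) : Spor.HN)) * g := by group
          _ = (((b : S) : C) : Spor.HN) * (((s : C) : Spor.HN) * g) := by rw [e1]; group
          _ = _ := by rw [e2]; group
      · intro s t h
        simp only [Subtype.mk.injEq] at h
        exact Subtype.ext (Subtype.ext h)
  rw [hcard]
  calc 3 ^ (Nat.card C).factorization 3 * 5 ^ (Nat.card C).factorization 5 ≤ 27 * 2430 := Nat.mul_le_mul h3 h5
    _ ≤ 78408 := by norm_num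

end Cfsg.Agent.H981.TC.HNNine
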