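import Cfsg.Agent.H981.TC.HNIn
import Cfsg.Agent.H981.TC.HNNine
import Cfsg.Agent.H175.Ore.HNOrdFive

/-!
# The row HN of S4173, S2464, S2452 (helper981)

`x` of order 11, `y` of order 19: every nonidentity element is a product of a conjugate of `x` and a conjugate of `y`; every
element is a product of three conjugates of `y`.
-/

set_option autoImplicit false

namespace Cfsg.Agent.H981.TC.HNTC

open Cfsg Cfsg.Agent

theorem in_HN {x y : Spor.HN} (hx : orderOf x = 11) (hy : orderOf y = 19) : HNFrame.In x y :=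
  inputs hx hy HNNine.cent_9 H175.Ore.HNOrdFive.cent_25

theorem exists_eleven : ∃ x : Spor.HN, orderOf x = 11 := by
  have : Finite Spor.HN := Cfsg.Agent.H315.PwHN.fin
  have : Fact (Nat.Prime 11) := ⟨by norm_num⟩
  exact exists_prime_orderOf_dvd_card' 11 (by rw [card_HN]; norm_num)

theorem exists_nineteen : ∃ x : Spor.HN, orderOf x = 19 := by
  have : Finite Spor.HN := Cfsg.Agent.H315.PwHN.fin
  have : Fact (Nat.Prime 19) := ⟨by norm_num⟩
  exact exists_prime_orderOf_dvd_card' 19 (by rw [card_HN]; norm_num)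

/-- **S4173, row HN.** -/
theorem tc_HN {S : Type*} [Group S] (h : Spor.IsoHN S) : H140.TC.TC S := by
  obtain ⟨e⟩ := h
  obtain ⟨x, hx⟩ := exists_eleven
  obtain ⟨y, hy⟩ := exists_nineteen
  exact H140.TC.TC.of_equiv e (HNFrame.tc_of (in_HN hx hy))

/-- **S2464 and S2452, row HN.** -/
theorem row3_HN {S : Type*} [Group S] (h : Spor.IsoHN S) : H210.TC.Row3 S := by
  obtain ⟨e⟩ := h
  obtain ⟨x, hx⟩ := exists_eleven
  obtain ⟨y, hy⟩ := exists_nineteen
  exact H210.TC.Row3.of_equiv e (row3_of hx hy (in_HN hx hy))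

end Cfsg.Agent.H981.TC.HNTC
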