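import Cfsg.Agent.H981.TC.HNFive

/-!
# The seven representatives as words (helper981, for S4173)
-/

set_option autoImplicit false

namespace Cfsg.Agent.H981.TC.HNFive

open Subgroup Cfsg Cfsg.Agent.H839.Rad.Ext Cfsg.Agent.H981.InvHN
open Cfsg.Agent.H839.Rad.HN (W A B C₁ D F τ k ext)

theorem sq2 (x : Spor.HN) : x ^ 2 = x * x := pow_two x

theorem nv_A : nv 1 0 = A := by simp [nv, nf, d0e, d1e, d2e, d3e]
theorem nv_AA : nv 2 0 = A * A := by
  simp [nv, nf, d0e, d1e, d2e, d3e]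
  exact sq2 _
theorem nv_D : nv 125 0 = D := by simp [nv, nf, d0e, d1e, d2e, d3e]
theorem nv_C : nv 25 0 = C₁ := by simp [nv, nf, d0e, d1e, d2e, d3e]
theorem nv_CC : nv 50 0 = C₁ * C₁ := by
  simp [nv, nf, d0e, d1e, d2e, d3e]
  exact sq2 _
theorem nv_BDD : nv 255 0 = B * (D * D) := by
  simp [nv, nf, d0e, d1e, d2e, d3e]
  exact sq2 _
theorem nv_BCD : nv 205 0 = B * (C₁ * (C₁ * (C₁ * D))) := by
  simp [nv, nf, d0e, d1e, d2e, d3e]
  have h : C₁ ^ 3 = C₁ * (C₁ * C₁) := by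
    rw [show (3 : ℕ) = 1 + 1 + 1 from rfl, pow_add, pow_add, pow_one, mul_assoc]
  first
  | rw [h]; simp only [mul_assoc]
  | (rw [show (C₁ ^ (3 : ℤ)) = C₁ ^ (3 : ℕ) from zpow_natCast C₁ 3, h]; simp only [mul_assoc])

/-- **every element of order 5 of HN is conjugate to one of seven** -/
theorem five_words {x : Spor.HN} (hx : orderOf x = 5) :
    IsConj A x ∨ IsConj (A * A) x ∨ IsConj D x ∨ IsConj C₁ x ∨ IsConj (C₁ * C₁) x ∨ IsConj (B * (D * D)) x ∨
      IsConj (B * (C₁ * (C₁ * (C₁ * D)))) x := by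
  obtain ⟨v, hv, h⟩ := five_cases hx
  unfold reps at hv
  simp only [List.mem_cons, List.not_mem_nil, or_false] at hv
  rcases hv with rfl | rfl | rfl | rfl | rfl | rfl | rfl
  · rw [nv_A] at h; exact Or.inl h
  · rw [nv_AA] at h; exact Or.inr (Or.inl h)
  · rw [nv_D] at h; exact Or.inr (Or.inr (Or.inl h))
  · rw [nv_C] at h; exact Or.inr (Or.inr (Or.inr (Or.inl h)))
  · rw [nv_CC] at h; exact Or.inr (Or.inr (Or.inr (Or.inr (Or.inl h))))
  · rw [nv_BDD] at h; exact Or.inr (Or.inr (Or.inr (Or.inr (Or.inr (Or.inl h)))))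
  · rw [nv_BCD] at h; exact Or.inr (Or.inr (Or.inr (Or.inr (Or.inr (Or.inr h)))))

end Cfsg.Agent.H981.TC.HNFive
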