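import Cfsg.Agent.H253.Ore.HNTwentyFive
import Cfsg.Agent.H749.PCl

/-!
# Elements of order 5 of the Harada-Norton group up to conjugacy (helper981, for S4173)

`Q = 5 ^ (1 + 4)` of `H839.Rad.HN`. `five_cases`: every element of order 5 is conjugate to one of seven elements of `Q`:
`A`, `A ^ 2`, `D`, `C₁`, `C₁ ^ 2`, `B D ^ 2`, `B C₁ ^ 3 D`.
-/

set_option autoImplicit false
set_option maxRecDepth 100000

namespace Cfsg.Agent.H981.TC.HNFive

open Subgroup Cfsg Cfsg.Agent.H839.Rad.Ext Cfsg.Agent.H285.ExtReal Cfsg.Agent.H981.InvHN Cfsg.Agent.H285.HN5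
open Cfsg.Agent.H839.Rad.HN (W A B C₁ D F τ k ext e_fa1 e_fb1 e_fa2 e_fb2 FW e_taua1 e_taub1 e_taua2 e_taub2 e_tauw
  e_ka1 e_kb1 e_ka2 e_kb2 e_kw F_Q A_eq F_eq e_b25 W_ne center_HN e_w5)

/-- the action of `F`, `τ`, `k` on `Q / Z(Q)` -/
def mv3 (g v : ℕ) : ℕ :=
  match g with
  | 0 => en (4 * d2 v + 4 * d3 v) (d1 v + d2 v) (4 * d0 v + 4 * d2 v + 4 * d3 v) (4 * d0 v + 4 * d1 v + 4 * d2 v + 4 * d3 v)
  | 1 => en (4 * d0 v) (4 * d1 v + 4 * d2 v) (d2 v) (d0 v + d3 v)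
  | _ => en (2 * d2 v) (3 * d0 v + 4 * d2 v + 3 * d3 v) (2 * d0 v) (4 * d0 v + 3 * d1 v + 3 * d2 v)

/-- rank table -/
def R3 : ℕ := 0x6674432456454654536443364555755266644657343453457653242555633454475453465323343133752324675755336232445766353636717656354571252543255375755445553534525435375452246445354635554556464335326573652444536264347556553543645626457466336254746765554635314156475663433556666554563755744372746413134424347433334534747633646745543535534665516574334347444646446233641636652734661570414264475555447461541443334454556745544355651543304654243553355467445676666753577356344543554364755253564576663663644566754351644054645545543465664623565227354664545662334656555262465554267143476545655464027541475556456447446445602226724642472217244622000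
/-- move table -/
def G3 : ℕ := 0x2060200209082002219a060111a208609822220618400005196806621881042142588444581801860140100a4012124045452840024aa04042498924019a10480502424044844100140011280008a211620009a0850a5046991024228044006440104050591620069911511004200080004280400881205050484190422800420500826644580081284a0440640482840445804220980904250a28280

/-- the representatives -/
def reps : List ℕ := [1, 2, 125, 25, 50, 255, 205]

theorem chk3 : (List.range 625).all (okv mv3 R3 G3 reps true) = true := by decide +kernel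

/-- conjugate to a representative -/
def S7 (x : Spor.HN) : Prop := ∃ v ∈ reps, IsConj (nv v 0) x

theorem S7.of_conj {x : Spor.HN} (t : Spor.HN) (h : S7 (t * x * t⁻¹)) : S7 x := by
  obtain ⟨v, hv, hc⟩ := h
  exact ⟨v, hv, hc.trans (isConj_iff.2 ⟨t, rfl⟩ : IsConj x (t * x * t⁻¹)).symm⟩

/-- conjugation -/
theorem step_conj7 {g : Spor.HN} (hW : g * W = W * g)
    {a0 a1 a2 a3 b0 b1 b2 b3 c0 c1 c2 c3 e0 e1 e2 e3 : ℕ} {a4 b4 c4 e4 : ℤ}
    (hA : g * A = nf W A B C₁ D a0 a1 a2 a3 a4 * g) (hB : g * B = nf W A B C₁ D b0 b1 b2 b3 b4 * g)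
    (hC : g * C₁ = nf W A B C₁ D c0 c1 c2 c3 c4 * g) (hD : g * D = nf W A B C₁ D e0 e1 e2 e3 e4 * g) {v : ℕ}
    (h : ∀ m, S7 (nv (en (d0 v * a0 + d1 v * b0 + d2 v * c0 + d3 v * e0) (d0 v * a1 + d1 v * b1 + d2 v * c1 + d3 v * e1)
      (d0 v * a2 + d1 v * b2 + d2 v * c2 + d3 v * e2) (d0 v * a3 + d1 v * b3 + d2 v * c3 + d3 v * e3)) m)) :
    ∀ m, S7 (nv v m) := by
  intro m
  apply S7.of_conj g
  obtain ⟨m', hm⟩ := conj_nf hW hA hB hC hD (d0 v) (d1 v) (d2 v) (d3 v) m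
  rw [nv, hm]
  have h1 := h m'
  rw [← nf_en] at h1
  push_cast at h1
  exact h1

theorem move7 (g v : ℕ) (h : ∀ m, S7 (nv (mv3 g v) m)) : ∀ m, S7 (nv v m) := by
  rcases g with _ | _ | g
  · refine step_conj7 FW (by exact_mod_cast e_fa1) (by exact_mod_cast e_fb1) (by exact_mod_cast e_fa2)
      (by exact_mod_cast e_fb2) fun m => ?_
    refine Eq.mp ?_ (h m)
    congr 2
    exact en_congr (by ring) (by ring) (by ring) (by ring)
  · refine step_conj7 e_tauw (by exact_mod_cast e_taua1) (by exact_mod_cast e_taub1) (by exact_mod_cast e_taua2)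
      (by exact_mod_cast e_taub2) fun m => ?_
    refine Eq.mp ?_ (h m)
    congr 2
    exact en_congr (by ring) (by ring) (by ring) (by ring)
  · refine step_conj7 e_kw (by exact_mod_cast e_ka1) (by exact_mod_cast e_kb1) (by exact_mod_cast e_ka2)
      (by exact_mod_cast e_kb2) fun m => ?_
    refine Eq.mp ?_ (h m)
    congr 2
    exact en_congr (by ring) (by ring) (by ring) (by ring)

/-- the central part of a normal form can be changed by conjugation -/
theorem rep_all7 {r0 r1 r2 r3 : ℤ} (s0 s1 s2 s3 : ℤ) (hω : (5 : ℤ) ∣ (s0 * r1 - r0 * s1 + s2 * r3 - r2 * s3) - 1)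
    (h : S7 (nf W A B C₁ D r0 r1 r2 r3 0)) (m : ℤ) : S7 (nf W A B C₁ D r0 r1 r2 r3 m) := by
  apply S7.of_conj (nf W A B C₁ D (-m * s0) (-m * s1) (-m * s2) (-m * s3) 0)
  rw [ext.nf_mul_comm, mul_assoc (W ^ _), mul_inv_cancel_right]
  have h1 : W ^ (-m * s0 * r1 - r0 * (-m * s1) + -m * s2 * r3 - r2 * (-m * s3)) = W ^ (-m) := by
    apply zpow_eq e_w5
    obtain ⟨t, ht⟩ := hω
    exact ⟨-m * t, by linear_combination (-m) * ht⟩
  rw [h1]
  have h2 : W ^ (-m) = nf W A B C₁ D 0 0 0 0 (-m) := by simp [nf]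
  rw [h2, ext.nf_mul]
  have h3 : nf W A B C₁ D (0 + r0) (0 + r1) (0 + r2) (0 + r3) (-m + m - r0 * 0 - r2 * 0) =
      nf W A B C₁ D r0 r1 r2 r3 0 := by
    congr 1 <;> ring
  rw [h3]
  exact h

theorem goodQ7 : ∀ v < 625, v ≠ 0 → ∀ m, S7 (nv v m) := by
  intro v hv h0
  refine all_of_rank (P := fun v => ∀ m, S7 (nv v m)) chk3 move7 ?_ _ v (Nat.lt_succ_self _) hv (fun _ => h0)
  intro v hv m
  have hr : S7 (nv v 0) := ⟨v, hv, IsConj.refl _⟩
  unfold reps at hv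
  simp only [List.mem_cons, List.not_mem_nil, or_false] at hv
  rcases hv with rfl | rfl | rfl | rfl | rfl | rfl | rfl
  · exact rep_all7 0 (-1) 0 0 (by decide) hr m
  · exact rep_all7 0 2 0 0 (by decide) hr m
  · exact rep_all7 0 0 1 0 (by decide) hr m
  · exact rep_all7 0 0 0 (-1) (by decide) hr m
  · exact rep_all7 0 0 0 2 (by decide) hr m
  · exact rep_all7 1 0 0 0 (by decide) hr m
  · exact rep_all7 1 0 0 0 (by decide) hr m

theorem nv_zero (m : ℤ) : nv 0 m = W ^ m := by simp [nv, nf, d0e, d1e, d2e, d3e]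

/-- the elements of `Q` -/
theorem goodQ {x : Spor.HN} (hx : x ∈ ext.Q) (h1 : x ≠ 1) : S7 x := by
  obtain ⟨i, j, u, l, m, rfl⟩ := hx
  obtain ⟨v, hv, he⟩ := exists_code i j u l m
  rw [he] at h1 ⊢
  by_cases h0 : v = 0
  · subst h0
    rw [nv_zero] at h1 ⊢
    have h3 : ¬ (5 : ℤ) ∣ m := fun h => h1 (by rw [zpow_eq e_w5 (i := m) (j := 0) (by simpa using h), zpow_zero])
    apply S7.of_conj Cfsg.Agent.H839.Rad.HN.G⁻¹
    have h4 : Cfsg.Agent.H839.Rad.HN.G⁻¹ * W ^ m * Cfsg.Agent.H839.Rad.HN.G⁻¹⁻¹ = A ^ m := by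
      rw [← conj_zpow, inv_inv, ← A_eq]
    rw [h4]
    have h5 : A ^ m = nf W A B C₁ D m 0 0 0 0 := by simp [nf]
    obtain ⟨v, hv, he⟩ := exists_code m 0 0 0 0
    rw [h5, he]
    apply goodQ7 v hv
    rintro rfl
    rw [nv_zero, zpow_zero] at he
    have h6 : A ^ m = A ^ (0 : ℤ) := by rw [h5, he, zpow_zero]
    have h7 : A ^ m ∈ zpowers W := by rw [h6, zpow_zero]; exact one_mem _
    have h8 : B = nf W A B C₁ D 0 1 0 0 0 := by simp [nf]
    have h9 := comm_of_mem h7 ext.b_mem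
    rw [h5, h8] at h9
    have h10 := ext.comm_iff.1 h9
    exact h3 (by simpa using h10)
  · exact goodQ7 v hv h0 m

/-! ### the coset of `F` -/

/-- `x` is not of order 5 or conjugate into `Q` -/
def IQ (x : Spor.HN) : Prop := x ^ 5 = 1 → ∃ c : Spor.HN, c * x * c⁻¹ ∈ ext.Q

theorem IQ.of_conj {x : Spor.HN} (t : Spor.HN) (h : IQ (t * x * t⁻¹)) : IQ x := by
  intro hx
  obtain ⟨c, hc⟩ := h (by rw [conj_pow, hx, mul_one, mul_inv_cancel])
  refine ⟨c * t, ?_⟩
  have : c * t * x * (c * t)⁻¹ = c * (t * x * t⁻¹) * c⁻¹ := by group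
  rw [this]
  exact hc

theorem moveIQ (g v : ℕ) (h : ∀ m, IQ (nv (mv2 g v) m * F)) : ∀ m, IQ (nv v m * F) := by
  intro m
  have key : ∀ (s : Spor.HN) (a0 a1 a2 a3 a4 s0 s1 s2 s3 : ℤ) (c0 c1 c2 c3 : ℕ),
      s⁻¹ = nf W A B C₁ D s0 s1 s2 s3 0 → F * s = nf W A B C₁ D a0 a1 a2 a3 a4 * F →
      (5 : ℤ) ∣ s0 + a0 - c0 → (5 : ℤ) ∣ s1 + a1 - c1 → (5 : ℤ) ∣ s2 + a2 - c2 → (5 : ℤ) ∣ s3 + a3 - c3 →
      (∀ m, IQ (nv (en (d0 v + c0) (d1 v + c1) (d2 v + c2) (d3 v + c3)) m * F)) → IQ (nv v m * F) := by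
    intro s a0 a1 a2 a3 a4 s0 s1 s2 s3 c0 c1 c2 c3 hs hF h0 h1 h2 h3 hv
    apply IQ.of_conj s⁻¹
    obtain ⟨m', hm⟩ := step_F hs hF (d0 v) (d1 v) (d2 v) (d3 v) m
    rw [nv, hm]
    have h4 := hv m'
    rw [← nf_en] at h4
    rw [nf_mod (i' := ((d0 v + c0 : ℕ) : ℤ)) (j' := ((d1 v + c1 : ℕ) : ℤ)) (u' := ((d2 v + c2 : ℕ) : ℤ))
      (l' := ((d3 v + c3 : ℕ) : ℤ)) (by push_cast; omega) (by push_cast; omega) (by push_cast; omega)
      (by push_cast; omega)]
    exact h4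
  rcases g with _ | _ | _ | g
  · exact key A _ _ _ _ _ (-1) 0 0 0 4 0 4 4 (by simp [nf]) e_fa1 (by norm_num) (by norm_num) (by norm_num) (by norm_num)
      h
  · exact key B _ _ _ _ _ 0 (-1) 0 0 0 0 0 4 (by simp [nf]) e_fb1 (by norm_num) (by norm_num) (by norm_num) (by norm_num)
      h
  · exact key C₁ _ _ _ _ _ 0 0 (-1) 0 4 1 3 4 (by simp [nf]) e_fa2 (by norm_num) (by norm_num) (by norm_num)
      (by norm_num) h
  · exact key D _ _ _ _ _ 0 0 0 (-1) 4 0 4 3 (by simp [nf]) e_fb2 (by norm_num) (by norm_num) (by norm_num) (by norm_num)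
      h

/-- elements of order 25 -/
theorem iq_of_ne {u : ℕ} (h : (C₁ ^ u * F) ^ 5 ≠ 1) (m : ℤ) : IQ (nf W A B C₁ D 0 0 u 0 m * F) := by
  intro h1
  exfalso
  apply h
  have cF : Commute (W ^ m) F := (show Commute W F from FW.symm).zpow_left m
  have cC : Commute (W ^ m) (C₁ ^ u) := ((show Commute W C₁ from ext.wc).zpow_left m).pow_right u
  have h2 : nf W A B C₁ D 0 0 u 0 m * F = C₁ ^ u * F * W ^ m := by
    simp only [nf, zpow_zero, one_mul, mul_one, zpow_natCast]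
    rw [mul_assoc, cF.eq, ← mul_assoc]
  have h3 : Commute (C₁ ^ u * F) (W ^ m) := Commute.mul_left cC.symm cF.symm
  rw [h2, h3.mul_pow] at h1
  have h4 : (W ^ m) ^ 5 = 1 := by
    rw [← zpow_natCast, ← zpow_mul, mul_comm, zpow_mul, zpow_natCast, e_w5, one_zpow]
  rwa [h4, mul_one] at h1

theorem iq_WF (m : ℤ) : IQ (W ^ m * F) := by
  intro _
  refine ⟨Cfsg.Agent.H839.Rad.HN.G⁻¹, ?_⟩
  have h1 : Cfsg.Agent.H839.Rad.HN.G⁻¹ * (W ^ m * F) * Cfsg.Agent.H839.Rad.HN.G⁻¹⁻¹ = A ^ m * D := by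
    have h2 : Cfsg.Agent.H839.Rad.HN.G⁻¹ * (W ^ m * F) * Cfsg.Agent.H839.Rad.HN.G⁻¹⁻¹ =
        (Cfsg.Agent.H839.Rad.HN.G⁻¹ * W ^ m * Cfsg.Agent.H839.Rad.HN.G⁻¹⁻¹) *
          (Cfsg.Agent.H839.Rad.HN.G⁻¹ * F * Cfsg.Agent.H839.Rad.HN.G⁻¹⁻¹) := by group
    rw [h2, ← conj_zpow, inv_inv, ← A_eq, F_eq]
    group
  rw [h1]
  exact mul_mem (zpow_mem ext.a_mem m) ext.d_mem

theorem iq_F : ∀ v < 625, ∀ m, IQ (nv v m * F) := by
  intro v hv
  refine all_of_rank (P := fun v => ∀ m, IQ (nv v m * F)) chk2 moveIQ ?_ _ v (Nat.lt_succ_self _) hv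
    (fun h => absurd h (by decide))
  intro v hv m
  simp only [List.mem_cons, List.not_mem_nil, or_false] at hv
  have hc : ∀ u : ℕ, u < 5 → nv (25 * u) m = nf W A B C₁ D 0 0 u 0 m := by
    intro u hu
    rw [nv, d0e, d1e, d2e, d3e]
    apply nf_eq <;> omega
  rcases hv with rfl | rfl | rfl | rfl | rfl
  · have h0 : nv 0 m = W ^ m := by simp [nv, nf, d0e, d1e, d2e, d3e]
    rw [h0]
    exact iq_WF m
  · rw [show (25 : ℕ) = 25 * 1 from rfl, hc 1 (by decide)]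
    exact iq_of_ne (by simpa only [pow_one] using T3.r_c1) m
  · rw [show (50 : ℕ) = 25 * 2 from rfl, hc 2 (by decide)]
    exact iq_of_ne (by simpa only [pow_succ, pow_zero, one_mul, mul_assoc] using T3.r_c2) m
  · rw [show (75 : ℕ) = 25 * 3 from rfl, hc 3 (by decide)]
    refine iq_of_ne ?_ m
    have h3 : C₁ ^ 3 * F = C₁ * (C₁ * (C₁ * F)) := by simp only [pow_succ, pow_zero, one_mul, mul_assoc]
    rw [h3]
    exact T3.r_c3
  · rw [show (100 : ℕ) = 25 * 4 from rfl, hc 4 (by decide)]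
    refine iq_of_ne ?_ m
    have h3 : C₁ ^ 4 * F = C₁ * (C₁ * (C₁ * (C₁ * F))) := by simp only [pow_succ, pow_zero, one_mul, mul_assoc]
    rw [h3]
    exact T3.r_c4

/-- **every element of order 5 is conjugate into `Q`** -/
theorem exists_mem_Q {x : Spor.HN} (hx : orderOf x = 5) : ∃ c : Spor.HN, c * x * c⁻¹ ∈ ext.Q := by
  have hx5 : x ^ 5 = 1 := by rw [← hx]; exact pow_orderOf_eq_one x
  obtain ⟨g, hg⟩ := Cfsg.Agent.H478.RadHeis.exists_conj_mem isPGroup_P index_P hx5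
  have hgx5 : (g * x * g⁻¹) ^ 5 = 1 := by rw [conj_pow, hx5, mul_one, mul_inv_cancel]
  obtain ⟨q, hq, s, hs⟩ := hg
  by_cases h5 : (5 : ℤ) ∣ s
  · have h1 : F ^ s = 1 := by rw [zpow_eq F5 (i := s) (j := 0) (by simpa using h5), zpow_zero]
    rw [h1, mul_one] at hs
    exact ⟨g, hs ▸ hq⟩
  · obtain ⟨t, ht⟩ : ∃ t : ℕ, (5 : ℤ) ∣ s * t - 1 := by
      have h4 : s % 5 = 1 ∨ s % 5 = 2 ∨ s % 5 = 3 ∨ s % 5 = 4 := by omega
      rcases h4 with h | h | h | h
      · exact ⟨1, by push_cast; omega⟩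
      · exact ⟨3, by push_cast; omega⟩
      · exact ⟨2, by push_cast; omega⟩
      · exact ⟨4, by push_cast; omega⟩
    have ht5 : ¬ 5 ∣ t := by
      rintro ⟨r, rfl⟩
      push_cast at ht
      have h6 : (5 : ℤ) ∣ s * (5 * r) := ⟨s * r, by ring⟩
      have h7 := dvd_sub h6 ht
      simp at h7
    have hIQ : IQ ((q * F ^ s) ^ t) := by
      obtain ⟨q', hq', he⟩ := pow_form hq s t
      rw [he, zpow_eq F5 (i := s * t) (j := 1) ht, zpow_one]
      obtain ⟨i, j, u, l, m, rfl⟩ := hq'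
      obtain ⟨v, hv, he⟩ := exists_code i j u l m
      rw [he]
      exact iq_F v hv m
    rw [← hs] at hIQ
    obtain ⟨c, hc⟩ := hIQ (by rw [← pow_mul, mul_comm, pow_mul, hgx5, one_pow])
    have hcop : Nat.Coprime t (orderOf (g * x * g⁻¹)) := by
      have h2 : orderOf (g * x * g⁻¹) ∣ 5 := orderOf_dvd_of_pow_eq_one hgx5
      exact Nat.Coprime.coprime_dvd_right h2 ((Nat.Prime.coprime_iff_not_dvd Nat.prime_five).2 ht5).symm
    obtain ⟨e, he⟩ := exists_pow_eq_self_of_coprime hcop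
    refine ⟨c * g, ?_⟩
    have h8 : c * g * x * (c * g)⁻¹ = (c * (g * x * g⁻¹) ^ t * c⁻¹) ^ e := by
      rw [conj_pow, he]; group
    rw [h8]
    exact pow_mem hc e

/-- **every element of order 5 is conjugate to one of seven** -/
theorem five_cases {x : Spor.HN} (hx : orderOf x = 5) : S7 x := by
  obtain ⟨c, hc⟩ := exists_mem_Q hx
  apply S7.of_conj c
  refine goodQ hc fun h => ?_
  rw [conj_eq_one_iff] at h
  rw [h, orderOf_one] at hx
  omega

end Cfsg.Agent.H981.TC.HNFive
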