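import Cfsg.Agent.H981.TC.HNReps
import Cfsg.Agent.H981.Ore.HN
import Cfsg.Agent.H728.Four.HNCent
import Cfsg.Agent.H728.Four.HNThreeComm
import Cfsg.Agent.H140.TC.Fam
import Cfsg.Agent.H653.HNE.Exact

/-!
# The row HN of S4173 (two classes covering the nonidentity elements): frame (helper981)

`x` of order 11, `y` of order 19: `all` reduces to the elements with centralizers of order at most 78408 (`t1`), the
involutions, the elements of order 3 (`X1`, `X3`) and the seven representatives of the elements of order 5.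
-/

set_option autoImplicit false

namespace Cfsg.Agent.H981.TC.HNFrame

open Cfsg Cfsg.Agent
open Cfsg.Agent.HN Cfsg.Agent.HN.Pres Cfsg.Agent.HN.P1408 Cfsg.Agent.HN.H0Basic Cfsg.Agent.HN.XMat
open Cfsg.Agent.HN.XStruct Cfsg.Agent.HN.XWords Cfsg.Agent.HN.XQuot Cfsg.Agent.HN.XInst
open Cfsg.Agent.KFacts.HN
open Cfsg.Agent.H981.Ore
open Cfsg.Agent.H65.Ore (Prd)
open Cfsg.Agent.H839.Rad.HN (A B C₁ D)
open Cfsg.Agent.CpAutHN.Pairs (X1 X3)

/-- the order of the centralizer -/
noncomputable abbrev cn (g : Cfsg.Spor.HN) : ℕ := Nat.card (Subgroup.centralizer ({g} : Set Cfsg.Spor.HN))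

/-- the inputs -/
structure In (x y : Cfsg.Spor.HN) : Prop where
  t1 : ∀ g : Cfsg.Spor.HN, cn g ≤ 78408 → Prd x y g
  w2A : Prd x y (NormalH.ψ τ)
  w2B : Prd x y W0
  w3A : Prd x y X1
  w3B : Prd x y X3
  w5A : Prd x y A
  w5AA : Prd x y (A * A)
  w5D : Prd x y D
  w5C : Prd x y C₁
  w5CC : Prd x y (C₁ * C₁)
  w5B : Prd x y (B * (D * D))
  w5E : Prd x y (B * (C₁ * (C₁ * (C₁ * D))))
  c9 : ∀ g : Cfsg.Spor.HN, orderOf g = 9 → cn g ≤ 78408
  c25 : ∀ g : Cfsg.Spor.HN, orderOf g = 25 → cn g ≤ 78408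

variable {x y : Cfsg.Spor.HN}

theorem two (h : In x y) {g : Cfsg.Spor.HN} (hg : orderOf g = 2) : Prd x y g := by
  rcases Classes.inv_class hg with h1 | h1
  · exact h.w2A.of_isConj h1.symm
  · exact h.w2B.of_isConj h1.symm

theorem three (h : In x y) {g : Cfsg.Spor.HN} (hg : orderOf g = 3) : Prd x y g := by
  have h3 : g ^ 3 = 1 := by rw [← hg]; exact pow_orderOf_eq_one g
  obtain ⟨t, ht, htg⟩ := H728.Four.HN3C.comm_inv h3
  have h1 : g ≠ 1 := by
    rintro rfl
    rw [orderOf_one] at hg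
    omega
  obtain ⟨c, hc⟩ := H569.HNThree.conj_of_comm (y := g) ⟨1, by rw [pow_one]; exact h3⟩ ht htg.symm h1
  rcases hc with hc | hc
  · exact h.w3A.of_isConj (isConj_iff.2 ⟨c, hc⟩ : IsConj g X1).symm
  · exact h.w3B.of_isConj (isConj_iff.2 ⟨c, hc⟩ : IsConj g X3).symm

theorem five (h : In x y) {g : Cfsg.Spor.HN} (hg : orderOf g = 5) : Prd x y g := by
  rcases HNFive.five_words hg with h1 | h1 | h1 | h1 | h1 | h1 | h1
  · exact h.w5A.of_isConj h1
  · exact h.w5AA.of_isConj h1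
  · exact h.w5D.of_isConj h1
  · exact h.w5C.of_isConj h1
  · exact h.w5CC.of_isConj h1
  · exact h.w5B.of_isConj h1
  · exact h.w5E.of_isConj h1

theorem prime (h : In x y) {g : Cfsg.Spor.HN} (hp : (orderOf g).Prime) : Prd x y g := by
  rcases Pw.HN.prime_cases hp (Pw.HN.orderOf_dvd_card g) with h1 | h1 | h1 | h1 | h1 | h1
  · exact two h h1
  · exact three h h1
  · exact five h h1
  · exact h.t1 g ((Nat.le_of_dvd (by norm_num) (H513.HNSeven.cent_seven h1)).trans (by norm_num))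
  · exact h.t1 g ((H315.PwHN.card_eleven h1).le.trans (by norm_num))
  · exact h.t1 g ((H315.PwHN.card_nineteen h1).le.trans (by norm_num))

theorem cn_four {g : Cfsg.Spor.HN} (hg : g ^ 2 = W0) : cn g ≤ 78408 := by
  have h0 : IsConj W0 (g ^ 2) := by rw [hg]
  rcases H653.HNE.conj_four h0 with h1 | h1
  · exact ((H653.HNE.card_cent_of_isConj h1).symm.trans H653.HNE.card_4A).le.trans (by norm_num)
  · exact ((H653.HNE.card_cent_of_isConj h1).symm.trans H653.HNE.card_4C).le.trans (by norm_num)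

/-- elements of `MM` with a power equal to `W0` -/
theorem mm (h : In x y) {g : Cfsg.Spor.HN} (hp : ¬ (orderOf g).Prime) (hg1 : g ≠ 1) (hm : g ∈ MM) {n : ℕ}
    (hn : g ^ n = W0) : Prd x y g := by
  obtain ⟨hyP, hy⟩ := mem_MM.1 hm
  have hle : Subgroup.centralizer ({g} : Set Cfsg.Spor.HN) ≤ PP := by
    intro v hv
    rw [Subgroup.mem_centralizer_singleton_iff] at hv
    rw [mem_PP, ← hn]
    exact ((show Commute v g from hv).pow_right n).eq
  by_cases h2 : ρ ⟨g, hyP⟩ = 1
  · -- order 4, square `W0`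
    obtain ⟨m, hm', c, h3⟩ := HNMM.mem_ker_val (x := ⟨g, hyP⟩) h2
    have h3 : g = r Q m * sgn0 c := h3
    have hno : g * g = 1 → False := by
      intro h4
      have h5 : orderOf g ∣ 2 := by
        rw [orderOf_dvd_iff_pow_eq_one, pow_two]
        exact h4
      rcases (Nat.dvd_prime Nat.prime_two).1 h5 with h6 | h6
      · exact hg1 (orderOf_eq_one_iff.1 h6)
      · exact hp (by rw [h6]; exact Nat.prime_two)
    rcases kinds hm' with rfl | h4 | h4 | h4
    · rw [show r Q 0 = 1 from Bas.r_zero, one_mul] at h3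
      rcases CpAutHN.PPFacts.sgn0_cases c with h5 | h5
      · exact (hno (by rw [h3, h5, mul_one])).elim
      · exact (hno (by rw [h3, h5]; exact W0_sq)).elim
    · have h5 := h4.2 c
      rw [← h3] at h5
      exact (hno (H728.Four.HNCent.sq_of_conj h5 H728.Four.HNCent.Q0_sq)).elim
    · have h5 := h4.2 c
      rw [← h3] at h5
      exact (hno (H728.Four.HNCent.sq_of_conj h5 W0_sq)).elim
    · have h5 := h4.2 c
      rw [← h3, ← pow_two] at h5
      exact h.t1 g (cn_four h5)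
  · apply h.t1
    refine le_trans (le_trans (le_of_eq ?_) (H728.Four.HNCent.card_le_LL hy h2)) (by norm_num)
    refine Nat.card_congr
      { toFun := fun v => ⟨⟨v, hle v.2⟩, ?_⟩
        invFun := fun v => ⟨(v : PP), ?_⟩
        left_inv := fun _ => rfl
        right_inv := fun _ => rfl }
    · rw [Subgroup.mem_centralizer_singleton_iff]
      exact Subtype.ext (Subgroup.mem_centralizer_singleton_iff.1 v.2)
    · rw [Subgroup.mem_centralizer_singleton_iff]
      exact congrArg Subtype.val (Subgroup.mem_centralizer_singleton_iff.1 v.2)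

/-- **The frame of the row.** -/
theorem all (h : In x y) {g : Cfsg.Spor.HN} (h1 : g ≠ 1) : Prd x y g := by
  by_cases hp : (orderOf g).Prime
  · exact prime h hp
  by_cases hW : ∃ n : ℕ, IsConj (g ^ n) W0
  · obtain ⟨n, hn⟩ := hW
    obtain ⟨c, hc⟩ := isConj_iff.1 hn
    have e1 : (c * g * c⁻¹) ^ n = W0 := by rw [conj_pow, hc]
    have ho : orderOf (c * g * c⁻¹) = orderOf g := (MulAut.conj c).orderOf_eq g
    have hI : IsConj (c * g * c⁻¹) g := (isConj_iff.2 ⟨c, rfl⟩ : IsConj g (c * g * c⁻¹)).symm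
    have hne : c * g * c⁻¹ ≠ 1 := by
      intro h2
      apply h1
      rw [← orderOf_eq_one_iff, ← ho, h2, orderOf_one]
    apply Prd.of_isConj _ hI
    by_cases hm : c * g * c⁻¹ ∈ MM
    · exact mm h (by rw [ho]; exact hp) hne hm e1
    · exact h.t1 _ ((HNPP.card_le_of_pow e1 hm).trans (by norm_num))
  · push Not at hW
    rcases HNRow.cent_le_of HNRow.h15 g h1 hp hW with h2 | h2 | ⟨h2, -⟩
    · exact h.t1 g (h2.trans (by norm_num))
    · exact h.t1 g (h.c9 g h2)
    · exact h.t1 g (h.c25 g h2)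

/-- the row -/
theorem tc_of {a b : Cfsg.Spor.HN} (h : In a b) : H140.TC.TC Cfsg.Spor.HN := by
  refine ⟨a, b, fun g hg => ?_⟩
  obtain ⟨u, v, e⟩ := all h hg
  exact ⟨u, v, e⟩

end Cfsg.Agent.H981.TC.HNFrame
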