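import Cfsg.Agent.H981.TC.HNRow
import Cfsg.Agent.H728.TC.HNWit
import Cfsg.Agent.H728.TC.HNT
import Cfsg.Agent.H253.Ore.HNTwentyFive

/-!
# The row HN of S4173, S2464, S2452: the inputs of the frame up to the orders 9 and 25 (helper981)
-/

set_option autoImplicit false

namespace Cfsg.Agent.H981.TC.HNTC

open Cfsg Cfsg.Agent
open Cfsg.Agent.H65.Ore (Prd)
open Cfsg.Agent.H728.TC
open Cfsg.Agent.H839.Rad.HN (A B C₁ D ext)
open Cfsg.Agent.HN.XWords (W0)

variable {x y : Spor.HN}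

theorem prd_wit (hx : orderOf x = 11) (hy : orderOf y = 19) {r : Spor.HN} (hr : IsConj r r⁻¹) (h : HNWit.Wit r) :
    Prd x y r := by
  obtain ⟨z₁, z₂, h1, h2, e⟩ := h
  exact HNT.prd_real hr e h1 h2 hx hy

theorem prd_inv (hx : orderOf x = 11) (hy : orderOf y = 19) {r : Spor.HN} (hr : orderOf r = 2) (h : HNWit.Wit r) :
    Prd x y r := by
  refine prd_wit hx hy ?_ h
  have h1 : r * r = 1 := by rw [← pow_two, ← hr]; exact pow_orderOf_eq_one r
  rw [inv_eq_of_mul_eq_one_right h1]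

theorem prd_three (hx : orderOf x = 11) (hy : orderOf y = 19) {r : Spor.HN} (hr : orderOf r = 3) (h : HNWit.Wit r) :
    Prd x y r :=
  prd_wit hx hy (H981.Ore.HNRow.real_three (k := 1) (by rw [pow_one, ← hr]; exact pow_orderOf_eq_one r)) h

theorem prd_Q (hx : orderOf x = 11) (hy : orderOf y = 19) {r : Spor.HN} (hr : r ∈ ext.Q) (h : HNWit.Wit r) :
    Prd x y r :=
  prd_wit hx hy (H253.Ore.HN25.real_of_five_group (n := 1) (by rw [pow_one]; exact ext.pow_eq_one (by decide) r hr)) h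

/-- the inputs of the frame -/
theorem inputs (hx : orderOf x = 11) (hy : orderOf y = 19)
    (c9 : ∀ g : Spor.HN, orderOf g = 9 → Nat.card (Subgroup.centralizer ({g} : Set Spor.HN)) ≤ 78408)
    (c25 : ∀ g : Spor.HN, orderOf g = 25 → Nat.card (Subgroup.centralizer ({g} : Set Spor.HN)) ≤ 78408) :
    HNFrame.In x y where
  t1 _ hg := HNT.prd_of_le hx hy hg
  w2A := prd_inv hx hy H513.HNSeven.order_ψτ HNWit.wit_tau
  w2B := prd_inv hx hy (orderOf_eq_prime (by rw [pow_two]; exact HN.XWords.W0_sq) KFacts.HN.PCard.W0_ne_one) HNWit.wit_W0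
  w3A := prd_three hx hy CpAutHN.Pairs.order_X1 HNWit.wit_X1
  w3B := prd_three hx hy CpAutHN.Pairs.order_X3 HNWit.wit_X3
  w5A := prd_Q hx hy ext.a_mem HNWit.wit_A
  w5AA := prd_Q hx hy (mul_mem ext.a_mem ext.a_mem) HNWit.wit_AA
  w5D := prd_Q hx hy ext.d_mem HNWit.wit_D
  w5C := prd_Q hx hy ext.c_mem HNWit.wit_C
  w5CC := prd_Q hx hy (mul_mem ext.c_mem ext.c_mem) HNWit.wit_CC
  w5B := prd_Q hx hy (mul_mem ext.b_mem (mul_mem ext.d_mem ext.d_mem)) HNWit.wit_BDD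
  w5E := prd_Q hx hy (mul_mem ext.b_mem (mul_mem ext.c_mem (mul_mem ext.c_mem (mul_mem ext.c_mem ext.d_mem))))
    HNWit.wit_BCCCD
  c9 := c9
  c25 := c25

end Cfsg.Agent.H981.TC.HNTC
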