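import Cfsg.Agent.H981.TC.HNFrame
import Cfsg.Agent.H981.TC.Cube
import Cfsg.Agent.H210.TC.Row

/-!
# The row HN of S4173, S2464, S2452 from the inputs of the frame (helper981)
-/

set_option autoImplicit false

namespace Cfsg.Agent.H981.TC.HNTC

open Cfsg Cfsg.Agent
open Cfsg.Agent.H981.Ore

theorem card_HN : Nat.card Spor.HN = 273030912000000 := KFacts.HN.Classes.card_HN

/-- every element is a product of three conjugates of an element of order 19 -/
theorem cube_nineteen {y : Spor.HN} (hy : orderOf y = 19) (g : Spor.HN) : Cube.Cu y g := by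
  have : Finite Spor.HN := Cfsg.Agent.H315.PwHN.fin
  refine Cube.cu_of_degOff (p := 19) (by norm_num) ?_ ?_ hy (c := 18) (d := 771) ?_ (by norm_num) HNRow.degOff g
  · rw [card_HN]; norm_num
  · rw [card_HN]; norm_num
  · exact (H315.PwHN.card_nineteen hy).le

/-- the three statements -/
theorem row3_of {x y : Spor.HN} (hx : orderOf x = 11) (hy : orderOf y = 19) (h : HNFrame.In x y) :
    H210.TC.Row3 Spor.HN := by
  refine ⟨y, x, by rw [hy]; norm_num, by rw [hy]; norm_num, by rw [hx]; norm_num, by rw [hx]; norm_num,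
    fun g hg => ?_, cube_nineteen hy⟩
  obtain ⟨u, v, e⟩ := (HNFrame.all h hg).swap
  exact ⟨u, v, e⟩

end Cfsg.Agent.H981.TC.HNTC
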